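import Groth.Agent.Lib.CurvePoint
import Groth.Agent.Lib.CurveAmple
import Groth.Agent.DecShLib.Sectional
import Groth.Agent.Pic13Lib.NumTrivBC
import Groth.Agent.FBaseLib.Basic
import Groth.Agent.FibDim.BaseField
import Groth.Agent.GrpSchLib.SepPoints
import Groth.Agent.GrpSchLib.SmoothReduced
import Groth.Agent.KFlatLib.Scheme.SecPoint
import Groth.Agent.S1664

/-!
# Twisting away sections by rational points after an extension of the base field
-/

set_option autoImplicit false
set_option linter.style.haveILetI false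
set_option linter.unusedSectionVars false
set_option backward.isDefEq.respectTransparency false
set_option backward.isDefEq.respectTransparency.types false
set_option maxHeartbeats 1600000

universe u

open CategoryTheory CategoryTheory.Limits AlgebraicGeometry TopologicalSpace Opposite
open Groth.Agent.PnCoh.Finite (mapLin)

noncomputable section

namespace Groth.Agent.CurveTwistBC

open Groth.Agent Groth.Agent.H23 Groth.Agent.H23.PicMul Groth.Agent.CurvePoint
attribute [local instance] PicMul.clMonoid

/-- The residue field at a rational point comes from the base field. -/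
theorem sub_mem_of_section {k : Type u} [Field k] {X : Scheme.{u}} [X.Over (Spec (CommRingCat.of k))]
    (σ : Spec (CommRingCat.of k) ⟶ X) (hσ : σ ≫ (X ↘ Spec (CommRingCat.of k)) = 𝟙 _)
    (a : X.presheaf.stalk (σ (IsLocalRing.closedPoint k))) :
    ∃ c : k, a - Curv2.stalkMap k X (σ (IsLocalRing.closedPoint k)) c ∈
      IsLocalRing.maximalIdeal (X.presheaf.stalk (σ (IsLocalRing.closedPoint k))) := by
  let φ : X.presheaf.stalk (σ (IsLocalRing.closedPoint k)) →+* k :=
    (Scheme.stalkClosedPointTo σ).hom
  have hφ : ∀ c, φ (Curv2.stalkMap k X (σ (IsLocalRing.closedPoint k)) c) = c := fun c => by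
    let d := (Scheme.ΓSpecIso (CommRingCat.of k)).inv c
    have h := ConcreteCategory.congr_hom
      (Scheme.germ_stalkClosedPointTo (R := CommRingCat.of k) σ ⊤ trivial) ((X ↘ Spec (CommRingCat.of k)).appTop d)
    simp only [ConcreteCategory.comp_apply] at h
    refine h.trans ?_
    have h2 : σ.appTop ((X ↘ Spec (CommRingCat.of k)).appTop d) = d := by
      have := ConcreteCategory.congr_hom (congrArg Scheme.Hom.appTop hσ) d
      simp only [Scheme.Hom.comp_appTop, Scheme.Hom.id_app, ConcreteCategory.comp_apply] at this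
      exact this
    refine Eq.trans ?_ (ConcreteCategory.congr_hom (Scheme.ΓSpecIso (CommRingCat.of k)).inv_hom_id c)
    simp only [ConcreteCategory.comp_apply, Iso.trans_hom]
    congr 1
  refine ⟨φ a, ?_⟩
  haveI : IsLocalHom φ := Scheme.isLocalHom_stalkClosedPointTo (R := CommRingCat.of k) σ
  by_contra hne
  have hu : IsUnit (a - Curv2.stalkMap k X (σ (IsLocalRing.closedPoint k)) (φ a)) := by
    simpa [IsLocalRing.mem_maximalIdeal] using hne
  have := hu.map φ
  rw [map_sub, hφ, sub_self] at this
  exact not_isUnit_zero this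

/-- The structure sheaf of a rational point has Euler characteristic one. -/
theorem euler_quot_pt {k : Type u} [Field k] {X : Scheme.{u}} [X.Over (Spec (CommRingCat.of k))] [IsIntegral X]
    [IsProper (X ↘ Spec (CommRingCat.of k))] [Smooth (X ↘ Spec (CommRingCat.of k))] (p : X)
    (hp : IsClosed ({p} : Set X))
    (hres : ∀ a : X.presheaf.stalk p, ∃ c : k, a - Curv2.stalkMap k X p c ∈ IsLocalRing.maximalIdeal (X.presheaf.stalk p)) :
    Curv2.euler k X (ClSub.quotMod (ptIdeal p hp)) = 1 := by
  classical
  haveI := CurveCohLib.isNoetherian_of_proper (k := k) (X := X)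
  let Q := ClSub.quotMod (ptIdeal p hp)
  obtain ⟨h, hfin⟩ := CurveCohLib.euler_eq_sum_stalks (k := k) (isCoh_quot p hp k)
    (closed_support p hp) {p} (by simpa using support_quot_subset p hp)
  rw [h, Finset.sum_singleton]
  letI := CurveCohLib.stalkModuleK k Q p
  haveI := hfin p (Finset.mem_singleton_self p)
  haveI : Nontrivial (Q.presheaf.stalk p) := not_subsingleton_iff_nontrivial.1 (not_subsingleton_stalk p hp)
  obtain ⟨q₀, hq₀⟩ : ∃ q₀ : Q.presheaf.stalk p, ∀ q, ∃ a : X.presheaf.stalk p, q = a • q₀ :=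
    ParShLib.exists_germ_smul (ptIdeal p hp) p
  let L : k →ₗ[k] Q.presheaf.stalk p :=
    { toFun := fun c => Curv2.stalkMap k X p c • q₀
      map_add' := fun c d => by rw [map_add, add_smul]
      map_smul' := fun a c => by
        show Curv2.stalkMap k X p (a * c) • q₀ = Curv2.stalkMap k X p a • (Curv2.stalkMap k X p c • q₀)
        rw [map_mul, mul_smul] }
  have hL : Function.Surjective L := fun q => by
    obtain ⟨a, ha⟩ := hq₀ q
    obtain ⟨c, hc⟩ := hres a
    refine ⟨c, ?_⟩
    have h0 := smul_quot_eq_zero p hp hc q₀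
    rw [sub_smul, sub_eq_zero] at h0
    exact h0.symm.trans (ha.symm : a • q₀ = q)
  have h1 := LinearMap.finrank_le_finrank_of_surjective hL
  have h2 : 0 < Module.finrank k (Q.presheaf.stalk p) := Module.finrank_pos
  rw [Module.finrank_self] at h1
  exact_mod_cast le_antisymm h1 h2

/-- On a reduced scheme a nonzero section of an invertible module generates somewhere. -/
theorem exists_mem_genLocus_of_ne_zero {Z : Scheme.{u}} [AlgebraicGeometry.IsReduced Z] {M : Z.Modules}
    (hM : PicF.IsInvertible M) {s : Coh.structureModule Z ⟶ M} (hs : s ≠ 0) :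
    ∃ z, z ∈ CohB1.genLocus M s := by
  by_contra hne
  push Not at hne
  refine hs (AmpleX.eq_zero_of_one_eq_zero s (QCoh.eq_zero_of_locally ⊤ (InvX.one s) fun z _ => ?_))
  obtain ⟨U, hzU, e, he⟩ := InvX.exists_frame hM z
  obtain ⟨g, hg⟩ := he.exists_coord (le_refl U) (AModX.res M (le_top : U ≤ ⊤) (InvX.one s))
  have hg' : AModX.res M (le_top : U ≤ ⊤) (InvX.one s) = g • e := by rw [hg, AModX.res_self]
  have hb : Z.basicOpen g = ⊥ := by
    rw [← InvX.genLocus_inf s he hg']
    exact le_bot_iff.1 fun x hx => absurd hx.1 (hne x)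
  have hg0 : g = 0 := eq_zero_of_basicOpen_eq_bot g hb
  refine ⟨U, homOfLE le_top, hzU, ?_⟩
  rw [hg0, zero_smul] at hg'
  exact hg'

/-- An invertible module is not zero on a nonempty scheme. -/
theorem not_isZero_invertible {Z : Scheme.{u}} {M : Z.Modules} (hM : PicF.IsInvertible M) (z : Z) :
    ¬ IsZero M := by
  intro h
  obtain ⟨U, hzU, e, he⟩ := InvX.exists_frame hM z
  haveI : Nonempty U := ⟨⟨z, hzU⟩⟩
  haveI : Subsingleton Γ(M, U) := ⟨fun a b => by
    have h0 : (𝟙 M : M ⟶ M) = 0 := h.eq_of_src _ _
    have key : ∀ c : Γ(M, U), c = 0 := fun c => congr(($h0).app U c)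
    rw [key a, key b]⟩
  have := (he U le_rfl).1 (Subsingleton.elim ((fun r : Γ(Z, U) => r • AModX.res M le_rfl e) 0)
    ((fun r : Γ(Z, U) => r • AModX.res M le_rfl e) 1))
  exact zero_ne_one this

section BC

variable {k : Type u} [Field k] [IsSepClosed k] {X : Scheme.{u}} [X.Over (Spec (CommRingCat.of k))]
  [IsIntegral X] [IsProper (X ↘ Spec (CommRingCat.of k))] [Smooth (X ↘ Spec (CommRingCat.of k))]
  {K : Type u} [Field K] [Algebra k K] {XK : Scheme.{u}} [XK.Over (Spec (CommRingCat.of K))]
  (g : XK ⟶ X)
  (hpb : IsPullback g (XK ↘ Spec (CommRingCat.of K)) (X ↘ Spec (CommRingCat.of k))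
    (Spec.map (CommRingCat.ofHom (algebraMap k K))))

include hpb in
theorem isProper_bc : IsProper (XK ↘ Spec (CommRingCat.of K)) :=
  MorphismProperty.of_isPullback (P := @IsProper) hpb inferInstance

include hpb in
theorem flat_bc : Flat g := by
  haveI : Flat (Spec.map (CommRingCat.ofHom (algebraMap k K))) :=
    Flat.SpecMap_iff.2 (RingHom.flat_algebraMap_iff.2 inferInstance)
  exact MorphismProperty.of_isPullback (P := @Flat) hpb.flip inferInstance

include hpb in
theorem isOpenMap_bc : IsOpenMap g := by
  haveI := FBaseLib.universallyOpen_spec_map_field (algebraMap k K)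
  haveI : UniversallyOpen g := MorphismProperty.of_isPullback (P := @UniversallyOpen) hpb.flip inferInstance
  exact g.isOpenMap

include hpb in
theorem dim_bc (hdim : topologicalKrullDim X = 1) : topologicalKrullDim XK = 1 := by
  haveI := isProper_bc g hpb
  rw [FibDim.topologicalKrullDim_baseChange hpb, hdim]

include hpb in
theorem reduced_bc : AlgebraicGeometry.IsReduced XK := by
  haveI : Smooth (XK ↘ Spec (CommRingCat.of K)) := MorphismProperty.of_isPullback (P := @Smooth) hpb inferInstance
  exact GrpSchLib.isReduced_of_smooth_field (XK ↘ Spec (CommRingCat.of K))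

include hpb in
/-- The fibre over a rational point is a single closed point. -/
theorem preimage_point (σ : Spec (CommRingCat.of k) ⟶ X) (hσ : σ ≫ (X ↘ Spec (CommRingCat.of k)) = 𝟙 _) :
    ∃ y : XK, IsClosed ({y} : Set XK) ∧ g ⁻¹' {σ (IsLocalRing.closedPoint k)} = {y} := by
  haveI := isProper_bc g hpb
  let σK : Spec (CommRingCat.of K) ⟶ XK :=
    hpb.lift (Spec.map (CommRingCat.ofHom (algebraMap k K)) ≫ σ) (𝟙 _)
      (by rw [Category.assoc, hσ, Category.comp_id, Category.id_comp])
  have h1 : σK ≫ g = Spec.map (CommRingCat.ofHom (algebraMap k K)) ≫ σ := hpb.lift_fst _ _ _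
  have h2 : σK ≫ (XK ↘ Spec (CommRingCat.of K)) = 𝟙 _ := hpb.lift_snd _ _ _
  have sq : IsPullback σK (Spec.map (CommRingCat.ofHom (algebraMap k K))) g σ := by
    refine IsPullback.of_right ?_ h1 hpb.flip
    rw [h2, hσ]
    exact IsPullback.of_horiz_isIso ⟨by simp⟩
  let y : XK := σK (IsLocalRing.closedPoint K)
  refine ⟨y, ?_, Set.eq_singleton_iff_unique_mem.2 ⟨?_, fun z hz => ?_⟩⟩
  · haveI : IsProper (σK ≫ (XK ↘ Spec (CommRingCat.of K))) := by rw [h2]; infer_instance
    haveI : IsProper σK := IsProper.of_comp σK (XK ↘ Spec (CommRingCat.of K))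
    have := σK.isClosedMap.isClosed_range
    have hr : Set.range σK = {y} := Set.eq_singleton_iff_unique_mem.2
      ⟨⟨_, rfl⟩, by rintro _ ⟨w, rfl⟩; exact congrArg σK (Subsingleton.elim w _)⟩
    rwa [hr] at this
  · show g (σK _) = _
    rw [← Scheme.Hom.comp_apply, h1, Scheme.Hom.comp_apply]
    exact congrArg σ (Subsingleton.elim _ _)
  · obtain ⟨w, hw, -⟩ := Scheme.exists_preimage_of_isPullback sq z (IsLocalRing.closedPoint k) hz
    rw [← hw]
    exact congrArg σK (Subsingleton.elim w _)

end BC

end Groth.Agent.CurveTwistBC
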