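import Groth.Agent.CurveTwistBC.Basic
import Groth.Agent.DecShLib.SectMain
import Groth.Agent.ZClosLib.CohDescent

/-!
# Twists with one section and no first cohomology
-/

set_option autoImplicit false
set_option linter.style.haveILetI false
set_option linter.unusedSectionVars false
set_option backward.isDefEq.respectTransparency false
set_option backward.isDefEq.respectTransparency.types false
set_option maxHeartbeats 1600000

universe u

open CategoryTheory CategoryTheory.Limits AlgebraicGeometry TopologicalSpace Opposite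
open Groth.Agent.PnCoh.Finite (mapLin)

noncomputable section

namespace Groth.Agent.CurveTwistBC

open Groth.Agent Groth.Agent.H23 Groth.Agent.H23.PicMul Groth.Agent.CurvePoint
attribute [local instance] PicMul.clMonoid

theorem one_comp {Z : Scheme.{u}} {M N : Z.Modules} (s : Coh.structureModule Z ⟶ M) (f : M ⟶ N) :
    InvX.one (s ≫ f) = f.app ⊤ (InvX.one s) := rfl

/-- Euler characteristics across a twisted sequence with a torsion quotient. -/
theorem euler_twisted {K : Type u} [Field K] {Z : Scheme.{u}} [Z.Over (Spec (CommRingCat.of K))]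
    [IsProper (Z ↘ Spec (CommRingCat.of K))] {M : Z.Modules} (hM : PicF.IsInvertible M)
    {S : ShortComplex Z.Modules} (hS : S.ShortExact) (h1 : Coh.IsCoh S.X₁) (h2 : Coh.IsCoh S.X₂)
    (h3 : Coh.IsCoh S.X₃) (hcl : ∀ x ∈ CohB1.support S.X₃, IsClosed ({x} : Set Z)) :
    Curv2.euler K Z ((DCoh.tensorBi.obj M).obj S.X₂) =
      Curv2.euler K Z ((DCoh.tensorBi.obj M).obj S.X₁) + Curv2.euler K Z S.X₃ := by
  haveI := CurveCohLib.isNoetherian_of_proper (k := K) (X := Z)
  have hMf := H23.PullPush.isFinLocFree_of_isInvertible hM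
  have h := DecShLib.euler_add' K (CurveTensor.shortExact_tensor hMf S.f S.g S.zero hS)
    (CurveTensor.isCoh_tensor hMf h1) (CurveTensor.isCoh_tensor hMf h2) (CurveTensor.isCoh_tensor hMf h3)
  have h' := CurveTensor.euler_tensor_torsion (k := K) (InvEnd.isFinLocFreeOfRank_one hM) h3 hcl
  change Curv2.euler K Z ((DCoh.tensorBi.obj M).obj S.X₂) = Curv2.euler K Z ((DCoh.tensorBi.obj M).obj S.X₁) +
    Curv2.euler K Z ((DCoh.tensorBi.obj M).obj S.X₃) at h
  rw [h, h']
  push_cast
  ring

variable {k : Type u} [Field k] [IsSepClosed k] {X : Scheme.{u}} [X.Over (Spec (CommRingCat.of k))]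
  [IsIntegral X] [IsProper (X ↘ Spec (CommRingCat.of k))] [Smooth (X ↘ Spec (CommRingCat.of k))]
  {K : Type u} [Field K] [Algebra k K] {XK : Scheme.{u}} [XK.Over (Spec (CommRingCat.of K))]
  (g : XK ⟶ X)
  (hpb : IsPullback g (XK ↘ Spec (CommRingCat.of K)) (X ↘ Spec (CommRingCat.of k))
    (Spec.map (CommRingCat.ofHom (algebraMap k K))))

include hpb in
/-- An ample invertible module on the curve. -/
theorem exists_ample (hdim : topologicalKrullDim X = 1) : ∃ A : X.Modules, CohB1.IsAmple A := by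
  haveI := CurveCohLib.isNoetherian_of_proper (k := k) (X := X)
  obtain ⟨σ, hσ, -⟩ := GrpSchLib.exists_point_of_smooth (X ↘ Spec (CommRingCat.of k)) ⊤ (x := genericPoint X) trivial
  let p := σ (IsLocalRing.closedPoint k)
  have hp : IsClosed ({p} : Set X) := by
    haveI : IsProper (σ ≫ (X ↘ Spec (CommRingCat.of k))) := by rw [hσ]; infer_instance
    haveI : IsProper σ := IsProper.of_comp σ (X ↘ Spec (CommRingCat.of k))
    have hr : Set.range σ = {p} := Set.eq_singleton_iff_unique_mem.2
      ⟨⟨_, rfl⟩, by rintro _ ⟨w, rfl⟩; exact congrArg σ (Subsingleton.elim w _)⟩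
    have := σ.isClosedMap.isClosed_range
    rwa [hr] at this
  have hI := isInvertible_ptMod p hp k hdim
  obtain ⟨J, hJ, ⟨e⟩⟩ := H23.PicInv.exists_inverse hI
  refine ⟨J, CurveAmple.isAmple_of_deg_pos (k := k) hdim hJ ?_⟩
  have h := euler_twisted (K := k) hJ (shortExact_pt p hp) (isCoh_ptMod p hp k) QCoh.isCoh_structureModule'
    (isCoh_quot p hp k) (closed_support p hp)
  change Curv2.euler k X ((DCoh.tensorBi.obj J).obj (Coh.structureModule X)) =
    Curv2.euler k X ((DCoh.tensorBi.obj J).obj (ptMod p hp)) + Curv2.euler k X (ClSub.quotMod (ptIdeal p hp)) at h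
  rw [euler_quot_pt p hp (sub_mem_of_section σ hσ)] at h
  have e1 : Curv2.euler k X ((DCoh.tensorBi.obj J).obj (Coh.structureModule X)) = Curv2.euler k X J :=
    (HilbPoly.additive_euler k).iso _ _ ⟨AmpleVan.twUnit.app J⟩
  have e2 : Curv2.euler k X ((DCoh.tensorBi.obj J).obj (ptMod p hp)) = Curv2.euler k X (Coh.structureModule X) :=
    (HilbPoly.additive_euler k).iso _ _ ⟨CurveTensor.commIso _ _ ≪≫ e⟩
  rw [e1, e2] at h
  unfold Curv2.deg
  push_cast
  omega

include hpb in
/-- Some rational twist kills one section and keeps `h¹ = 0`. -/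
theorem exists_drop (hdim : topologicalKrullDim X = 1) {M : XK.Modules} (hM : PicF.IsInvertible M)
    (h1 : Subsingleton (Coh.HH XK M 1)) (h0 : Module.finrank K (Coh.HH XK M 0) ≠ 0) :
    ∃ L₁ : X.Modules, PicF.IsInvertible L₁ ∧
      Subsingleton (Coh.HH XK (CohB1.tensorMod M ((Scheme.Modules.pullback g).obj L₁)) 1) ∧
      Module.finrank K (Coh.HH XK (CohB1.tensorMod M ((Scheme.Modules.pullback g).obj L₁)) 0) + 1 =
        Module.finrank K (Coh.HH XK M 0) := by
  haveI := isProper_bc g hpb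
  haveI := flat_bc g hpb
  haveI := reduced_bc g hpb
  haveI := CurveCohLib.isNoetherian_of_proper (k := k) (X := X)
  haveI := CurveCohLib.isNoetherian_of_proper (k := K) (X := XK)
  haveI : XK.IsSeparated := AmpleVan.isSeparated_of_proper (A := K)
  have hdK := dim_bc g hpb hdim
  obtain ⟨s, hs⟩ := CurveRR.exists_hom_ne_zero K h0
  obtain ⟨z, hz⟩ := exists_mem_genLocus_of_ne_zero hM hs
  obtain ⟨σ, hσ, hσV⟩ := GrpSchLib.exists_point_of_smooth (X ↘ Spec (CommRingCat.of k))
    ⟨g '' (CohB1.genLocus M s : Set XK), isOpenMap_bc g hpb _ (CohB1.genLocus M s).isOpen⟩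
    (x := g z) ⟨z, hz, rfl⟩
  let p := σ (IsLocalRing.closedPoint k)
  obtain ⟨y, hy, hfib⟩ := preimage_point g hpb σ hσ
  have hys : y ∈ CohB1.genLocus M s := by
    obtain ⟨w, hw, hwp⟩ := hσV
    have : w ∈ g ⁻¹' {p} := hwp
    rw [hfib] at this
    rwa [← Set.mem_singleton_iff.1 this]
  have hp : IsClosed ({p} : Set X) := by
    haveI : IsProper (σ ≫ (X ↘ Spec (CommRingCat.of k))) := by rw [hσ]; infer_instance
    haveI : IsProper σ := IsProper.of_comp σ (X ↘ Spec (CommRingCat.of k))
    have hr : Set.range σ = {p} := Set.eq_singleton_iff_unique_mem.2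
      ⟨⟨_, rfl⟩, by rintro _ ⟨w, rfl⟩; exact congrArg σ (Subsingleton.elim w _)⟩
    have := σ.isClosedMap.isClosed_range
    rwa [hr] at this
  let I := ptMod p hp
  have hI : PicF.IsInvertible I := isInvertible_ptMod p hp k hdim
  refine ⟨I, hI, ?_⟩
  -- the pulled back sequence
  let P := Scheme.Modules.pullback g
  let T₀ := ShortComplex.mk (ClSub.idealModι (ptIdeal p hp)) (ClSub.toSubscheme (ptIdeal p hp)) (kernel.condition _)
  haveI : P.Additive := Functor.additive_of_preserves_binary_products _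
  let S : ShortComplex XK.Modules := T₀.map P
  haveI : PreservesFiniteColimits P :=
    (inferInstance : PreservesFiniteColimits (Scheme.Modules.pullback g))
  have hS : S.ShortExact := (shortExact_pt p hp).map_of_exact P
  have hQc : Coh.IsCoh S.X₃ := ZClosLib.isCoh_pullback g (isCoh_quot p hp k)
  have hIc : Coh.IsCoh S.X₁ := ZClosLib.isCoh_pullback g (isCoh_ptMod p hp k)
  have hOc : Coh.IsCoh S.X₂ := ZClosLib.isCoh_pullback g QCoh.isCoh_structureModule'
  have hQsupp : CohB1.support S.X₃ = {y} := by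
    rw [show CohB1.support S.X₃ = g ⁻¹' CohB1.support (ClSub.quotMod (ptIdeal p hp)) from
      QCoh.support_pullback g (isCoh_quot p hp k).1 (isCoh_quot p hp k).2, ← hfib]
    congr 1
    refine Set.Subset.antisymm (support_quot_subset p hp) ?_
    rintro _ rfl
    exact not_subsingleton_stalk p hp
  have hcl : ∀ x ∈ CohB1.support S.X₃, IsClosed ({x} : Set XK) := fun x hx => by
    rw [hQsupp] at hx
    rw [Set.mem_singleton_iff.1 hx]
    exact hy
  have hQ1 : Curv2.euler K XK S.X₃ = 1 :=
    (Pic13Lib.NumTriv.euler_bc g hpb (isCoh_quot p hp k).1).trans (euler_quot_pt p hp (sub_mem_of_section σ hσ))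
  have hMf := H23.PullPush.isFinLocFree_of_isInvertible hM
  let T := ShortComplex.mk ((DCoh.tensorBi.obj M).map S.f) ((DCoh.tensorBi.obj M).map S.g)
    (by rw [← Functor.map_comp, S.zero, Functor.map_zero])
  have hT : T.ShortExact := CurveTensor.shortExact_tensor hMf S.f S.g S.zero hS
  have hT1 : Coh.IsCoh T.X₁ := CurveTensor.isCoh_tensor hMf hIc
  have hT2 : Coh.IsCoh T.X₂ := CurveTensor.isCoh_tensor hMf hOc
  obtain ⟨u⟩ : Nonempty (T.X₂ ≅ M) := by
    refine cl_eq_iff.1 ?_
    show PicF.cl (CohB1.tensorMod M (P.obj (Coh.structureModule X))) = _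
    rw [cl_tensor, show PicF.cl (P.obj (Coh.structureModule X)) = 1 from PicMul.pullCl_one g, mul_one]
  have hT3cl : ∀ x ∈ CohB1.support T.X₃, IsClosed ({x} : Set XK) := fun x hx =>
    hcl x (CurveTensor.support_tensor_subset hx)
  have hχ := euler_twisted (K := K) hM hS hIc hOc hQc hcl
  rw [hQ1] at hχ
  -- the section survives
  have hne : ¬ Function.Surjective (mapLin K T.f 0) := by
    intro hsurj
    have hzero : ∀ t, mapLin K T.g 0 t = 0 := fun t => by
      obtain ⟨w, rfl⟩ := hsurj t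
      exact LinearMap.mem_ker.1 ((CurveCohLib.ker_mapLin_g K hT 0).ge ⟨w, rfl⟩)
    have hsg : (s ≫ u.inv) ≫ T.g = 0 := by
      refine AmpleX.eq_zero_of_one_eq_zero _ ?_
      rw [one_comp]
      have h := Sheaf.H.equiv₀_naturality isTerminalTop ((QCoh.toAbFunctor XK).map T.g)
        ((Sheaf.H.equiv₀ (Coh.toAb T.X₂) isTerminalTop).symm (InvX.one (s ≫ u.inv)))
      erw [AddEquiv.apply_symm_apply] at h
      refine Eq.trans h ?_
      rw [show (Sheaf.H.map ((QCoh.toAbFunctor XK).map T.g) 0)
          ((Sheaf.H.equiv₀ (Coh.toAb T.X₂) isTerminalTop).symm (InvX.one (s ≫ u.inv))) = 0 from hzero _]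
      exact map_zero _
    have hV : IsZero ((Scheme.Modules.restrictFunctor (CohB1.genLocus M s).ι).obj T.X₃) := by
      let R := Scheme.Modules.restrictFunctor (CohB1.genLocus M s).ι
      haveI : IsIso (R.map s) := (InvX.isIso_restrict_iff s _).2 (AmpleX.res_genLocus_frame s)
      haveI : Epi T.g := hT.epi_g
      haveI : Epi (R.map T.g) := inferInstance
      have h := congrArg R.map hsg
      rw [Functor.map_comp, Functor.map_comp, Functor.map_zero, Category.assoc] at h
      have h' : R.map T.g = 0 := by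
        rw [← cancel_epi (R.map u.inv), ← cancel_epi (R.map s), h]
        simp
      rw [IsZero.iff_id_eq_zero, ← cancel_epi (R.map T.g), h', zero_comp, zero_comp]
    have hnot : y ∉ CohB1.support T.X₃ := HilbPoly.notMem_support_of_isZero_restrict hV hys
    have hz3 : IsZero T.X₃ := CurveCohLib.isZero_of_subsingleton_stalks fun x => not_not.1 fun hx => by
      have hx' : x ∈ CohB1.support S.X₃ := CurveTensor.support_tensor_subset hx
      rw [hQsupp] at hx'
      exact hnot (Set.mem_singleton_iff.1 hx' ▸ hx)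
    have h3 := CurveTensor.euler_tensor_torsion (k := K) (InvEnd.isFinLocFreeOfRank_one hM) hQc hcl
    rw [hQ1, Euler.euler_eq_sum K _ 0 fun i _ => Euler.subsingleton_HH_of_isZero hz3 i] at h3
    simp at h3
  haveI := S0002.result K XK _ hT2 0
  haveI := S0002.result K XK _ hT1 0
  have hinj : Function.Injective (mapLin K T.f 0) := CurveCohLib.mapLin_f_zero_injective K hT
  have hlt : Module.finrank K (Coh.HH XK T.X₁ 0) < Module.finrank K (Coh.HH XK T.X₂ 0) := by
    refine lt_of_le_of_ne (LinearMap.finrank_le_finrank_of_injective hinj) fun he => hne ?_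
    exact (LinearMap.injective_iff_surjective_of_finrank_eq_finrank he).1 hinj
  have a2 := DecShLib.h0_eq K hdK hT2
  have a1 := DecShLib.h0_eq K hdK hT1
  haveI : Subsingleton (Coh.HH XK T.X₂ 1) := QCoh.subsingleton_HH_of_iso u.symm 1 h1
  have b2 : Module.finrank K (Coh.HH XK T.X₂ 1) = 0 := Module.finrank_zero_of_subsingleton
  have e0 : Module.finrank K (Coh.HH XK T.X₂ 0) = Module.finrank K (Coh.HH XK M 0) :=
    (CurveCohLib.hhEquiv (k := K) u 0).finrank_eq
  change Curv2.euler K XK T.X₂ = Curv2.euler K XK T.X₁ + 1 at hχ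
  rw [b2] at a2
  haveI := S0002.result K XK _ hT1 1
  have hb1 : Module.finrank K (Coh.HH XK T.X₁ 1) = 0 := by omega
  refine ⟨show Subsingleton (Coh.HH XK T.X₁ 1) from Module.finrank_zero_iff.1 hb1, ?_⟩
  show Module.finrank K (Coh.HH XK T.X₁ 0) + 1 = _
  omega

include hpb in
/-- A twist with sections and without `h¹`. -/
theorem exists_start (hdim : topologicalKrullDim X = 1) {L : XK.Modules} (hL : PicF.IsInvertible L) :
    ∃ L₀ : X.Modules, PicF.IsInvertible L₀ ∧
      Subsingleton (Coh.HH XK (CohB1.tensorMod L ((Scheme.Modules.pullback g).obj L₀)) 1) ∧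
      Module.finrank K (Coh.HH XK (CohB1.tensorMod L ((Scheme.Modules.pullback g).obj L₀)) 0) ≠ 0 := by
  haveI := isProper_bc g hpb
  haveI := CurveCohLib.isNoetherian_of_proper (k := k) (X := X)
  haveI := CurveCohLib.isNoetherian_of_proper (k := K) (X := XK)
  haveI : XK.IsSeparated := AmpleVan.isSeparated_of_proper (A := K)
  obtain ⟨A, hA⟩ := exists_ample g hpb hdim
  haveI : IsAffineHom g := MorphismProperty.of_isPullback hpb.flip inferInstance
  have hB : CohB1.IsAmple ((Scheme.Modules.pullback g).obj A) :=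
    AmpleVan.FiniteSurj.isAmple_pullback_of_isAffineHom g hA
  have hLc : Coh.IsCoh L := AmpleVan.isCoh_invertible hL
  obtain ⟨d₀, hd₀⟩ := AmpleVan.exists_vanishing (A := K) hB hLc
  obtain ⟨d₁, hd₁⟩ := AmpleX.eventually_isGloballyGenerated hB hLc.1 hLc.2
  let n := max d₀ d₁
  refine ⟨CohB1.tensorPow A n, PicMul.isInvertible_tensorPow hA.1 n, ?_⟩
  obtain ⟨e⟩ : Nonempty (CohB1.tensorMod L (CohB1.tensorPow ((Scheme.Modules.pullback g).obj A) n) ≅
      CohB1.tensorMod L ((Scheme.Modules.pullback g).obj (CohB1.tensorPow A n))) := cl_eq_iff.1 (by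
    rw [cl_tensor, cl_tensor]
    exact congrArg (PicF.cl L * ·) (cl_eq_iff.2 (AmpleVan.RelVanish.pullback_tensorPow g A n)).symm)
  refine ⟨QCoh.subsingleton_HH_of_iso e 1 (hd₀ n (le_max_left _ _) 0), ?_⟩
  rw [← (CurveCohLib.hhEquiv (k := K) e 0).finrank_eq]
  have hi : PicF.IsInvertible (CohB1.tensorMod L (CohB1.tensorPow ((Scheme.Modules.pullback g).obj A) n)) :=
    InvX.isInvertible_tensorMod hL (PicMul.isInvertible_tensorPow hB.1 n)
  obtain ⟨σ, hσ, -⟩ := GrpSchLib.exists_point_of_smooth (X ↘ Spec (CommRingCat.of k)) ⊤ (x := genericPoint X) trivial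
  obtain ⟨y, -, -⟩ := preimage_point g hpb σ hσ
  obtain ⟨ι, q, hq⟩ := hd₁ n (le_max_right _ _)
  intro h0
  refine not_isZero_invertible hi y ?_
  haveI := S0002.result K XK _ (AmpleVan.isCoh_invertible hi) 0
  haveI : Subsingleton (Coh.HH XK (CohB1.tensorMod L (CohB1.tensorPow ((Scheme.Modules.pullback g).obj A) n)) 0) :=
    Module.finrank_zero_iff.1 h0
  have hq0 : q = 0 := Sigma.hom_ext _ _ fun i => by
    rw [comp_zero]
    refine AmpleX.eq_zero_of_one_eq_zero _ ?_
    exact (Sheaf.H.equiv₀ (Coh.toAb (CohB1.tensorMod L (CohB1.tensorPow ((Scheme.Modules.pullback g).obj A) n))) isTerminalTop).symm.injective (Subsingleton.elim (α := Coh.HH XK (CohB1.tensorMod L (CohB1.tensorPow ((Scheme.Modules.pullback g).obj A) n)) 0) _ _)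
  haveI := hq
  rw [IsZero.iff_id_eq_zero, ← cancel_epi q]
  simp [hq0]

include hpb in
theorem exists_twist (hdim : topologicalKrullDim X = 1) {L : XK.Modules} (hL : PicF.IsInvertible L) :
    ∃ L₀ : X.Modules, PicF.IsInvertible L₀ ∧
      Module.finrank K (Coh.HH XK (CohB1.tensorMod L ((Scheme.Modules.pullback g).obj L₀)) 0) = 1 ∧
      Subsingleton (Coh.HH XK (CohB1.tensorMod L ((Scheme.Modules.pullback g).obj L₀)) 1) := by
  suffices h : ∀ (n : ℕ) (L₀ : X.Modules), PicF.IsInvertible L₀ →
      Subsingleton (Coh.HH XK (CohB1.tensorMod L ((Scheme.Modules.pullback g).obj L₀)) 1) →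
      Module.finrank K (Coh.HH XK (CohB1.tensorMod L ((Scheme.Modules.pullback g).obj L₀)) 0) = n + 1 →
      ∃ L' : X.Modules, PicF.IsInvertible L' ∧
        Module.finrank K (Coh.HH XK (CohB1.tensorMod L ((Scheme.Modules.pullback g).obj L')) 0) = 1 ∧
        Subsingleton (Coh.HH XK (CohB1.tensorMod L ((Scheme.Modules.pullback g).obj L')) 1) by
    obtain ⟨L₀, hL₀, h1, h0⟩ := exists_start g hpb hdim hL
    obtain ⟨n, hn⟩ := Nat.exists_eq_succ_of_ne_zero h0
    exact h n L₀ hL₀ h1 hn
  intro n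
  induction n with
  | zero => exact fun L₀ hL₀ h1 h0 => ⟨L₀, hL₀, h0, h1⟩
  | succ n ih =>
    intro L₀ hL₀ h1 h0
    obtain ⟨L₁, hL₁, a1, a0⟩ := exists_drop g hpb hdim
      (InvX.isInvertible_tensorMod hL (PicClLib.isInvertible_pullback g hL₀)) h1 (by omega)
    obtain ⟨e⟩ : Nonempty (CohB1.tensorMod (CohB1.tensorMod L ((Scheme.Modules.pullback g).obj L₀))
        ((Scheme.Modules.pullback g).obj L₁) ≅
        CohB1.tensorMod L ((Scheme.Modules.pullback g).obj (CohB1.tensorMod L₀ L₁))) := cl_eq_iff.1 (by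
      rw [cl_tensor, cl_tensor, cl_tensor, mul_assoc]
      exact congrArg (PicF.cl L * ·) (PicMul.pullCl_mul g (PicF.cl L₀) (PicF.cl L₁)).symm)
    rw [(CurveCohLib.hhEquiv (k := K) e 0).finrank_eq] at a0
    exact ih _ (InvX.isInvertible_tensorMod hL₀ hL₁) (QCoh.subsingleton_HH_of_iso e 1 a1) (by omega)

end Groth.Agent.CurveTwistBC
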